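import Groth.Agent.Lib.Helper2.Mon.ProjClosed
import Groth.Agent.Lib.Helper4.FaltRing
import Groth.Agent.Lib.Helper4.Depth

/-!
# The depth of the stalks of a direct image under a closed immersion (helper2)
-/

set_option autoImplicit false
set_option linter.style.haveILetI false
universe u
open CategoryTheory CategoryTheory.Limits AlgebraicGeometry TopologicalSpace Opposite

noncomputable section

namespace Groth.Agent.Lib.Helper2.StalkExt

open Groth.Agent.Lib.Helper2.Stk Groth.Agent.Lib.Helper2.Mon

variable {X P : Scheme.{u}} (ι : X ⟶ P) [IsClosedImmersion ι]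

/-- **`depth_{O_{P,ι x}} (ι_* F)_{ι x} = depth_{O_{X,x}} F_x`** for a closed immersion `ι`. -/
theorem depth_stalk_pushforward (F : X.Modules) (x : X) :
    LocCoh.depth (P.presheaf.stalk (ι.base x))
      (((Scheme.Modules.pushforward ι).obj F).presheaf.stalk (ι.base x)) =
    LocCoh.depth (X.presheaf.stalk x) (F.presheaf.stalk x) := by
  let e := (pushStalkIso ι x ι.isClosedEmbedding.isInducing).app F
  letI : Algebra (P.presheaf.stalk (ι.base x)) (X.presheaf.stalk x) :=
    (ι.stalkMap x).hom.toAlgebra
  letI : Module (P.presheaf.stalk (ι.base x)) (F.presheaf.stalk x) :=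
    Module.compHom _ (ι.stalkMap x).hom
  haveI : IsScalarTower (P.presheaf.stalk (ι.base x)) (X.presheaf.stalk x)
      (F.presheaf.stalk x) := IsScalarTower.of_algebraMap_smul (fun r m => rfl)
  haveI : IsLocalHom (algebraMap (P.presheaf.stalk (ι.base x)) (X.presheaf.stalk x)) :=
    (inferInstance : IsLocalHom (ι.stalkMap x).hom)
  have h1 : LocCoh.depth (P.presheaf.stalk (ι.base x))
      (((Scheme.Modules.pushforward ι).obj F).presheaf.stalk (ι.base x)) =
      LocCoh.depth (P.presheaf.stalk (ι.base x)) (F.presheaf.stalk x) :=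
    Groth.Agent.Lib.Helper4.idealDepth_congr _ e.toLinearEquiv
  rw [h1]
  exact Groth.Agent.Lib.Helper4.Falt.depth_eq_of_surjective (ι.stalkMap_surjective x) _

end Groth.Agent.Lib.Helper2.StalkExt
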