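import Groth.Agent.Lib.Helper2.StalkExt.PnRegular
import Groth.Agent.Lib.Helper2.StalkExt.PushDepth
import Groth.Agent.Lib.Helper7.PushLinear
import Groth.Agent.S0019
import Groth.Agent.Lib.Helper17.FlatClosureOpen
import Groth.Agent.Lib.Helper26.FinPush
import Groth.Agent.Lib.Helper4.CM

/-!
# Negative twists on a closed subscheme of `P^N_k` and depth at the closed points (helper2)
-/

set_option autoImplicit false
set_option linter.style.haveILetI false
universe u
open CategoryTheory CategoryTheory.Limits AlgebraicGeometry TopologicalSpace Opposite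
open IsLocalRing

noncomputable section

namespace Groth.Agent.Lib.Helper2.StalkExt

open Groth.Agent.Lib.Helper2.ExtDepth Groth.Agent.Lib.Helper4 Groth.Agent.Lib.Helper7

variable (k : Type u) [Field k] (N : ℕ) {X : Scheme.{u}} (ι : X ⟶ CohB1.ProjSpace N k)
  [IsClosedImmersion ι]

/-- cohomology of a twist on the closed subscheme is cohomology of the twist of the direct image -/
theorem subsingleton_HH_twist_iff_push (F : X.Modules) (m : ℤ) (j : ℕ) :
    Subsingleton (Coh.HH X (CohB1.tensorMod F
        ((Scheme.Modules.pullback ι).obj (Twist.twistProjSpace N k m))) j) ↔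
      Subsingleton (Coh.HH (CohB1.ProjSpace N k) (CohB1.tensorMod
        ((Scheme.Modules.pushforward ι).obj F) (Twist.twistProjSpace N k m)) j) := by
  have e := PushLinear.pushEquiv ι
    (CohB1.tensorMod F ((Scheme.Modules.pullback ι).obj (Twist.twistProjSpace N k m))) j
  have e2 : CohB1.tensorMod ((Scheme.Modules.pushforward ι).obj F)
      (Twist.twistProjSpace N k m) ≅
      (Scheme.Modules.pushforward ι).obj
        (CohB1.tensorMod F ((Scheme.Modules.pullback ι).obj (Twist.twistProjSpace N k m))) :=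
    Groth.Agent.Lib.Helper2.Mon.projIso ι F (Twist.twistProjSpace N k m)
  constructor
  · intro h
    haveI := h
    exact TwFun.subsingleton_HH_of_iso e2 j e.symm.toEquiv.subsingleton
  · intro h
    haveI : Subsingleton (Coh.HH (CohB1.ProjSpace N k) ((Scheme.Modules.pushforward ι).obj
        (CohB1.tensorMod F ((Scheme.Modules.pullback ι).obj (Twist.twistProjSpace N k m)))) j) :=
      TwFun.subsingleton_HH_of_iso e2.symm j h
    exact e.toEquiv.subsingleton

/-- **`H^j(X, F(-q)) = 0` for `j ≤ n`, `q ≫ 0` iff `depth F_x > n` at every closed point**, for a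
coherent module on a closed subscheme of `P^N_k`. -/
theorem neg_twist_vanishing_le_iff_depth_stalk_closed (F : X.Modules) (hF : Coh.IsCoh F) (n : ℕ) :
    (∃ q₀ : ℕ, ∀ q : ℕ, q₀ ≤ q → ∀ j : ℕ, j ≤ n → Subsingleton (Coh.HH X (CohB1.tensorMod F
        ((Scheme.Modules.pullback ι).obj (Twist.twistProjSpace N k (-(q : ℤ))))) j)) ↔
      ∀ x : X, IsClosed ({x} : Set X) →
        (n : ℕ∞) < LocCoh.depth (X.presheaf.stalk x) (F.presheaf.stalk x) := by
  haveI : IsNoetherian (CohB1.ProjSpace N k) := Groth.Agent.S2357.result (CohB1.polyGrading N k)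
  have hG : Coh.IsCoh ((Scheme.Modules.pushforward ι).obj F) := Groth.Agent.S0019.result ι F hF
  have h1 : (∃ q₀ : ℕ, ∀ q : ℕ, q₀ ≤ q → ∀ j : ℕ, j ≤ n → Subsingleton (Coh.HH X
      (CohB1.tensorMod F
        ((Scheme.Modules.pullback ι).obj (Twist.twistProjSpace N k (-(q : ℤ))))) j)) ↔
      (∃ m₀ : ℤ, ∀ m : ℤ, m₀ ≤ m → ∀ i : ℕ, i ≤ n → Subsingleton (Coh.HH (CohB1.ProjSpace N k)
        (CohB1.tensorMod ((Scheme.Modules.pushforward ι).obj F)
          (Twist.twistProjSpace N k (-m))) i)) := by
    constructor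
    · rintro ⟨q₀, h⟩
      refine ⟨(q₀ : ℤ), fun m hm i hi => ?_⟩
      obtain ⟨q, rfl⟩ : ∃ q : ℕ, m = (q : ℤ) := ⟨m.toNat, (Int.toNat_of_nonneg (by omega)).symm⟩
      exact (subsingleton_HH_twist_iff_push k N ι F _ i).mp (h q (by omega) i hi)
    · rintro ⟨m₀, h⟩
      refine ⟨m₀.toNat, fun q hq j hj => ?_⟩
      refine (subsingleton_HH_twist_iff_push k N ι F _ j).mpr (h (q : ℤ) ?_ j hj)
      have := Int.self_le_toNat m₀
      omega
  rw [h1, neg_twist_vanishing_le_iff_depth_stalk k N _ hG n]
  constructor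
  · intro h x hx
    have hcl : IsClosed ({ι.base x} : Set (CohB1.ProjSpace N k)) := by
      have := ι.isClosedEmbedding.isClosedMap _ hx
      rwa [Set.image_singleton] at this
    rw [← depth_stalk_pushforward ι F x]
    exact h _ hcl
  · intro h y hy
    by_cases hyr : y ∈ Set.range ι.base
    · obtain ⟨x, rfl⟩ := hyr
      have hcl : IsClosed ({x} : Set X) := by
        have := hy.preimage ι.continuous
        have h2 : ι.base ⁻¹' {ι.base x} = {x} := by
          ext z
          simp only [Set.mem_preimage, Set.mem_singleton_iff]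
          exact ⟨fun hz => ι.isClosedEmbedding.injective hz, fun hz => by rw [hz]⟩
        rwa [h2] at this
      rw [depth_stalk_pushforward ι F x]
      exact h x hcl
    · have hsub : Subsingleton (((Scheme.Modules.pushforward ι).obj F).presheaf.stalk y) := by
        by_contra hns
        exact hyr (support_pushforward_subset_range ι F hns)
      unfold LocCoh.depth
      rw [idealDepth_of_smul_top_eq _ (Subsingleton.elim _ _)]
      exact ENat.natCast_lt_top n

section CM

/-- a local ring of a scheme of dimension `n` whose depth is at least `n` is Cohen–Macaulay of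
dimension `n`. -/
theorem cm_of_le_depth {X : Scheme.{u}} [IsLocallyNoetherian X] (n : ℕ)
    (hn : topologicalKrullDim ↥X = n) (x : X)
    (h : (n : ℕ∞) ≤ LocCoh.depth (X.presheaf.stalk x) (X.presheaf.stalk x)) :
    LocCoh.IsCohenMacaulayLocalRing (X.presheaf.stalk x) ∧
      ringKrullDim (X.presheaf.stalk x) = n := by
  have h1 : ((LocCoh.depth (X.presheaf.stalk x) (X.presheaf.stalk x) : ℕ∞) : WithBot ℕ∞) ≤
      Module.supportDim (X.presheaf.stalk x) (X.presheaf.stalk x) := depth_le_supportDim
  rw [Module.supportDim_self_eq_ringKrullDim] at h1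
  have h2 : ringKrullDim (X.presheaf.stalk x) ≤ (n : WithBot ℕ∞) := by
    rw [← hn]
    exact Groth.Agent.Lib.Helper17.FlatClosure.ringKrullDim_stalk_le_topologicalKrullDim x
  have h3 : ((n : ℕ∞) : WithBot ℕ∞) ≤
      ((LocCoh.depth (X.presheaf.stalk x) (X.presheaf.stalk x) : ℕ∞) : WithBot ℕ∞) :=
    WithBot.coe_le_coe.mpr h
  have hdim : ringKrullDim (X.presheaf.stalk x) = (n : WithBot ℕ∞) :=
    le_antisymm h2 (h3.trans h1)
  refine ⟨⟨?_⟩, hdim⟩
  rw [Module.supportDim_self_eq_ringKrullDim]
  exact le_antisymm (hdim.le.trans h3) h1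

variable {k N ι}

/-- the depth of the stalk of the structure module is the depth of the local ring -/
theorem depth_stalk_structureModule {X : Scheme.{u}} (x : X) :
    LocCoh.depth (X.presheaf.stalk x) ((Coh.structureModule X).presheaf.stalk x) =
      LocCoh.depth (X.presheaf.stalk x) (X.presheaf.stalk x) :=
  idealDepth_congr _ (unitStalkIso x).toLinearEquiv

variable (k N ι)

/-- **Vanishing of `H^j(X, O_X(-q))` for `j < n`, `q ≫ 0` forces Cohen–Macaulayness of dimension
`n` at the closed points.** -/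
theorem cm_of_neg_twist_vanishing (n : ℕ) (hn : topologicalKrullDim ↥X = n)
    (h : ∃ q₀ : ℕ, ∀ q : ℕ, q₀ ≤ q → ∀ j : ℕ, j < n → Subsingleton (Coh.HH X
      (CohB1.tensorMod (Coh.structureModule X)
        ((Scheme.Modules.pullback ι).obj (Twist.twistProjSpace N k (-(q : ℤ))))) j))
    (x : X) (hx : IsClosed ({x} : Set X)) :
    LocCoh.IsCohenMacaulayLocalRing (X.presheaf.stalk x) ∧
      ringKrullDim (X.presheaf.stalk x) = n := by
  haveI : IsNoetherian (CohB1.ProjSpace N k) := Groth.Agent.S2357.result (CohB1.polyGrading N k)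
  haveI : IsLocallyNoetherian X := LocallyOfFiniteType.isLocallyNoetherian ι
  refine cm_of_le_depth n hn x ?_
  cases n with
  | zero => exact zero_le
  | succ n' =>
    obtain ⟨q₀, hq⟩ := h
    have h1 := (neg_twist_vanishing_le_iff_depth_stalk_closed k N ι (Coh.structureModule X)
      (Groth.Agent.Lib.Helper2.ExtShCoh.isCoh_unit X) n').mp
      ⟨q₀, fun q hq' j hj => hq q hq' j (by omega)⟩ x hx
    rw [depth_stalk_structureModule] at h1
    have h2 : ((n' + 1 : ℕ) : ℕ∞) = (n' : ℕ∞) + 1 := by push_cast; rfl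
    rw [h2]
    exact Order.add_one_le_of_lt h1

/-- **On a closed subscheme of `P^N_k` which is Cohen–Macaulay of dimension `n` at its closed
points, `H^j(X, F(-q)) = 0` for `j < n`, `q ≫ 0`, `F` finite locally free.** -/
theorem neg_twist_vanishing_of_cm (n : ℕ)
    (hCM : ∀ x : X, IsClosed ({x} : Set X) →
      LocCoh.IsCohenMacaulayLocalRing (X.presheaf.stalk x) ∧
        ringKrullDim (X.presheaf.stalk x) = n)
    (F : X.Modules) (hF : FlatMod.IsFinLocFree F) :
    ∃ q₀ : ℕ, ∀ q : ℕ, q₀ ≤ q → ∀ j : ℕ, j < n → Subsingleton (Coh.HH X (CohB1.tensorMod F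
      ((Scheme.Modules.pullback ι).obj (Twist.twistProjSpace N k (-(q : ℤ))))) j) := by
  haveI : IsNoetherian (CohB1.ProjSpace N k) := Groth.Agent.S2357.result (CohB1.polyGrading N k)
  haveI : IsLocallyNoetherian X := LocallyOfFiniteType.isLocallyNoetherian ι
  cases n with
  | zero => exact ⟨0, fun q _ j hj => absurd hj (Nat.not_lt_zero j)⟩
  | succ n' =>
    have hFc : Coh.IsCoh F := Groth.Agent.Lib.Helper13.StalkPd.coh_of_lf hF
    obtain ⟨q₀, hq⟩ := (neg_twist_vanishing_le_iff_depth_stalk_closed k N ι F hFc n').mpr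
      (fun x hx => by
        obtain ⟨hcm, hdim⟩ := hCM x hx
        obtain ⟨hfree, hfin⟩ :=
          Groth.Agent.Lib.Helper25.SplitFibre.free_finite_stalk_of_isFinLocFree hF x
        by_cases hnt : Nontrivial (F.presheaf.stalk x)
        · rw [Groth.Agent.Lib.Helper7.AusBuch.depth_free (X.presheaf.stalk x)
            (F.presheaf.stalk x)]
          have h1 := hcm.supportDim_eq_depth
          rw [Module.supportDim_self_eq_ringKrullDim, hdim] at h1
          have h2 : ((n' + 1 : ℕ) : ℕ∞) =
              LocCoh.depth (X.presheaf.stalk x) (X.presheaf.stalk x) := by exact_mod_cast h1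
          rw [← h2]
          exact_mod_cast Nat.lt_succ_self n'
        · rw [not_nontrivial_iff_subsingleton] at hnt
          unfold LocCoh.depth
          rw [idealDepth_of_smul_top_eq _ (Subsingleton.elim _ _)]
          exact ENat.natCast_lt_top n')
    exact ⟨q₀, fun q hq' j hj => hq q hq' j (by omega)⟩

end CM

end Groth.Agent.Lib.Helper2.StalkExt
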