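import Groth.Agent.Lib.Helper2.StalkExt.PnStalk
import Groth.Agent.Lib.Helper2.ExtDepth.PnExt
import Groth.Agent.Lib.Helper2.HomogG.PnCM
import Groth.Agent.Lib.Helper4.StalkDual
import Groth.Agent.S0565
import Groth.Agent.Lib.Helper17.CohStalk
import Groth.Agent.Lib.Helper20.GrModCM1

/-!
# The local rings of `P^N_k` are regular, of dimension `N` at the closed points; negative twists
and local cohomology of the stalks (helper2)
-/

set_option autoImplicit false
set_option linter.style.haveILetI false
universe u
open CategoryTheory CategoryTheory.Limits AlgebraicGeometry TopologicalSpace Opposite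
open IsLocalRing MvPolynomial HomogeneousLocalization

noncomputable section

namespace Groth.Agent.Lib.Helper2.StalkExt

open Groth.Agent.Lib.Helper2.HomogG Groth.Agent.Lib.Helper2.ExtDepth
  Groth.Agent.Lib.Helper12 Groth.Agent.Lib.Helper12.SchemeDimFT
  Groth.Agent.Lib.Helper4 Groth.Agent.Lib.Helper4.LC Groth.Agent.Lib.Helper4.StalkDual
  Groth.Agent.Lib.Helper7

variable (k : Type u) [Field k] (N : ℕ)

/-- the homogeneous localisation of `k[x_0..x_N]` at a relevant homogeneous prime is regular -/
theorem isRegularLocalRing_atPrime_poly (x : ProjectiveSpectrum (CohB1.polyGrading N k)) :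
    IsRegularLocalRing (AtPrime (CohB1.polyGrading N k) x.asHomogeneousIdeal.toIdeal) := by
  obtain ⟨i, hi⟩ := Groth.Agent.Lib.Lead.ProjTop.exists_X_notMem k N x
  haveI : IsNoetherianRing (AtPrime (CohB1.polyGrading N k) x.asHomogeneousIdeal.toIdeal) :=
    isNoetherianRing_atPrime (CohB1.polyGrading N k) x.asHomogeneousIdeal.toIdeal
  haveI : Module.Flat (AtPrime (CohB1.polyGrading N k) x.asHomogeneousIdeal.toIdeal)
      (Localization.AtPrime x.asHomogeneousIdeal.toIdeal) :=
    flat_atPrime (CohB1.polyGrading N k) x.asHomogeneousIdeal.toIdeal (d := 0) (f := 1)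
      (f' := X i) SetLike.GradedOne.one_mem
      (fun h => x.isPrime.ne_top ((Ideal.eq_top_iff_one _).mpr h))
      (by
        show (X i : MvPolynomial (Fin (N + 1)) k) ∈ homogeneousSubmodule (Fin (N + 1)) k 1
        rw [mem_homogeneousSubmodule]
        exact isHomogeneous_X k i) hi
  haveI : IsRegularLocalRing (Localization.AtPrime x.asHomogeneousIdeal.toIdeal) :=
    IsRegularRing.isRegularLocalRing_localization _
  exact Groth.Agent.S0565.result _ (Localization.AtPrime x.asHomogeneousIdeal.toIdeal)

/-- **the local rings of `P^N_k` are regular.** -/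
theorem isRegularLocalRing_stalk_projSpace (x : CohB1.ProjSpace N k) :
    IsRegularLocalRing ((CohB1.ProjSpace N k).presheaf.stalk x) := by
  let e : (CohB1.ProjSpace N k).presheaf.stalk x ≃+*
      AtPrime (CohB1.polyGrading N k)
        (show ProjectiveSpectrum (CohB1.polyGrading N k) from x).asHomogeneousIdeal.toIdeal :=
    (Proj.stalkIso (CohB1.polyGrading N k) x).commRingCatIsoToRingEquiv
  haveI := isRegularLocalRing_atPrime_poly k N x
  exact IsRegularLocalRing.of_ringEquiv e.symm

/-- **the local rings of `P^N_k` at the closed points have dimension `N`.** -/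
theorem ringKrullDim_stalk_projSpace_of_isClosed (x : CohB1.ProjSpace N k)
    (hx : IsClosed ({x} : Set (CohB1.ProjSpace N k))) :
    ringKrullDim ((CohB1.ProjSpace N k).presheaf.stalk x) = (N : WithBot ℕ∞) := by
  obtain ⟨b, hb, hsum⟩ := tr_add_ringKrullDim_stalk_of_equidim k (CohB1.ProjSpace N k) N
    (equidim_projSpace k N) x
  rw [tr_eq_zero_of_isClosed k (CohB1.ProjSpace N k) x hx, zero_add] at hsum
  rw [hb, hsum]

section Main

variable (F : (CohB1.ProjSpace N k).Modules) (hF : Coh.IsCoh F)

include hF in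
/-- **`H^i(P, F(-m)) = 0` for `m ≫ 0` iff `H^i_𝔪(F_x) = 0` at every closed point.** -/
theorem neg_twist_vanishing_iff_stalk_localCohomology (i : ℕ) :
    (∃ m₀ : ℤ, ∀ m : ℤ, m₀ ≤ m → Subsingleton (Coh.HH (CohB1.ProjSpace N k)
        (CohB1.tensorMod F (Twist.twistProjSpace N k (-m))) i)) ↔
      ∀ x : CohB1.ProjSpace N k, IsClosed ({x} : Set (CohB1.ProjSpace N k)) →
        Subsingleton (LocCoh.H (maximalIdeal ((CohB1.ProjSpace N k).presheaf.stalk x)) i
          (F.presheaf.stalk x)) := by
  haveI : F.IsQuasicoherent := hF.1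
  haveI : F.IsFiniteType := hF.2
  by_cases hi : i ≤ N
  · rw [neg_twist_vanishing_iff_stalk_ext_closed N k F hF i (N - i) (by omega)]
    refine forall_congr' (fun x => imp_congr_right (fun hx => ?_))
    haveI := isRegularLocalRing_stalk_projSpace k N x
    haveI : Module.Finite ((CohB1.ProjSpace N k).presheaf.stalk x) (F.presheaf.stalk x) :=
      Groth.Agent.Lib.Helper17.CohStalk.finite_stalk F x
    have hdim := ringKrullDim_stalk_projSpace_of_isClosed k N x hx
    rw [← regular_vanishing_iff ((CohB1.ProjSpace N k).presheaf.stalk x) N hdim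
      (F.presheaf.stalk x) i (N - i) (by omega)]
    exact (lcEquiv (maximalIdeal ((CohB1.ProjSpace N k).presheaf.stalk x))
      (ModuleCat.of ((CohB1.ProjSpace N k).presheaf.stalk x) (F.presheaf.stalk x))
      i).toEquiv.subsingleton_congr.symm
  · rw [not_le] at hi
    constructor
    · intro _ x hx
      haveI := isRegularLocalRing_stalk_projSpace k N x
      have hdim := ringKrullDim_stalk_projSpace_of_isClosed k N x hx
      haveI : Subsingleton (HH (maximalIdeal ((CohB1.ProjSpace N k).presheaf.stalk x))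
          (ModuleCat.of ((CohB1.ProjSpace N k).presheaf.stalk x) (F.presheaf.stalk x)) i) :=
        HH.subsingleton_of_ringKrullDim_lt _ _ i (by rw [hdim]; exact_mod_cast hi)
      exact (lcEquiv (maximalIdeal ((CohB1.ProjSpace N k).presheaf.stalk x))
        (ModuleCat.of ((CohB1.ProjSpace N k).presheaf.stalk x) (F.presheaf.stalk x))
        i).toEquiv.subsingleton
    · intro _
      refine ⟨0, fun m _ => ?_⟩
      exact @Mumford.hvan N k _ _ (Mumford.isQCoh_tw N k F hF.1 (-m)) i hi

include hF in
/-- **`H^i(P, F(-m)) = 0` for `i ≤ n`, `m ≫ 0` iff `depth F_x > n` at every closed point.** -/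
theorem neg_twist_vanishing_le_iff_depth_stalk (n : ℕ) :
    (∃ m₀ : ℤ, ∀ m : ℤ, m₀ ≤ m → ∀ i : ℕ, i ≤ n → Subsingleton (Coh.HH (CohB1.ProjSpace N k)
        (CohB1.tensorMod F (Twist.twistProjSpace N k (-m))) i)) ↔
      ∀ x : CohB1.ProjSpace N k, IsClosed ({x} : Set (CohB1.ProjSpace N k)) →
        (n : ℕ∞) < LocCoh.depth ((CohB1.ProjSpace N k).presheaf.stalk x) (F.presheaf.stalk x) := by
  haveI : F.IsQuasicoherent := hF.1
  haveI : F.IsFiniteType := hF.2
  constructor
  · rintro ⟨m₀, h⟩ x hx
    haveI := isRegularLocalRing_stalk_projSpace k N x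
    haveI : Module.Finite ((CohB1.ProjSpace N k).presheaf.stalk x) (F.presheaf.stalk x) :=
      Groth.Agent.Lib.Helper17.CohStalk.finite_stalk F x
    have h1 : ((n + 1 : ℕ) : ℕ∞) ≤
        LocCoh.idealDepth (maximalIdeal ((CohB1.ProjSpace N k).presheaf.stalk x))
          (F.presheaf.stalk x) := by
      refine Groth.Agent.Lib.Helper20.GrModCM.le_idealDepth_of_HH_vanishing _ _ (n + 1)
        (fun i hi => ?_)
      haveI := (neg_twist_vanishing_iff_stalk_localCohomology k N F hF i).mp
        ⟨m₀, fun m hm => h m hm i (by omega)⟩ x hx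
      exact (lcEquiv (maximalIdeal ((CohB1.ProjSpace N k).presheaf.stalk x))
        (ModuleCat.of ((CohB1.ProjSpace N k).presheaf.stalk x) (F.presheaf.stalk x))
        i).symm.toEquiv.subsingleton
    unfold LocCoh.depth
    refine lt_of_lt_of_le ?_ h1
    exact_mod_cast Nat.lt_succ_self n
  · intro h
    have key : ∀ i : ℕ, i ≤ n → ∃ m₀ : ℤ, ∀ m : ℤ, m₀ ≤ m →
        Subsingleton (Coh.HH (CohB1.ProjSpace N k)
          (CohB1.tensorMod F (Twist.twistProjSpace N k (-m))) i) := by
      intro i hi
      rw [neg_twist_vanishing_iff_stalk_localCohomology k N F hF i]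
      intro x hx
      haveI := isRegularLocalRing_stalk_projSpace k N x
      haveI : Module.Finite ((CohB1.ProjSpace N k).presheaf.stalk x) (F.presheaf.stalk x) :=
        Groth.Agent.Lib.Helper17.CohStalk.finite_stalk F x
      haveI : Subsingleton (HH (maximalIdeal ((CohB1.ProjSpace N k).presheaf.stalk x))
          (ModuleCat.of ((CohB1.ProjSpace N k).presheaf.stalk x) (F.presheaf.stalk x)) i) :=
        HH.subsingleton_of_lt_idealDepth _ _ i
          (lt_of_le_of_lt (by exact_mod_cast hi) (h x hx))
      exact (lcEquiv (maximalIdeal ((CohB1.ProjSpace N k).presheaf.stalk x))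
        (ModuleCat.of ((CohB1.ProjSpace N k).presheaf.stalk x) (F.presheaf.stalk x))
        i).toEquiv.subsingleton
    classical
    choose! m₀ hm₀ using key
    refine ⟨((Finset.range (n + 1)).sup (fun i => (m₀ i).toNat) : ℕ), fun m hm i hi => ?_⟩
    refine hm₀ i hi m ?_
    have h2 : (m₀ i).toNat ≤ (Finset.range (n + 1)).sup (fun i => (m₀ i).toNat) :=
      Finset.le_sup (f := fun i => (m₀ i).toNat) (Finset.mem_range.mpr (by omega))
    have h3 := Int.self_le_toNat (m₀ i)
    omega

end Main

end Groth.Agent.Lib.Helper2.StalkExt
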