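import Groth.Agent.Lib.Helper2.StalkExt.Stalk
import Groth.Agent.Lib.Helper17.DevBasic
import Groth.Agent.Lib.Helper1.MaxAnnInt

/-!
# `ℰxt^j(F, G) = 0` iff `Ext^j_{O_x}(F_x, G_x) = 0` at all (closed) points (helper2)
-/

set_option autoImplicit false
set_option linter.style.haveILetI false
universe u
open CategoryTheory CategoryTheory.Limits AlgebraicGeometry TopologicalSpace Opposite
open Scheme.Modules

noncomputable section

namespace Groth.Agent.Lib.Helper2.StalkExt

open Groth.Agent.Lib.Helper2.ExtShCoh

variable {X : Scheme.{u}}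

/-- a module is zero iff all its stalks vanish -/
theorem isZero_iff_stalks (M : X.Modules) :
    IsZero M ↔ ∀ x : X, Subsingleton (M.presheaf.stalk x) := by
  constructor
  · intro h x
    by_contra hx
    have h1 : x ∈ CohB1.support M := hx
    rw [Groth.Agent.Lib.Helper17.DevBasic.support_eq_empty_of_isZero h] at h1
    exact h1
  · intro h
    apply Groth.Agent.Lib.Helper17.DevBasic.isZero_of_support_eq_empty
    ext x
    simp only [Set.mem_empty_iff_false, iff_false]
    intro hx
    exact hx (h x)

/-- a coherent module on a quasi-compact scheme is zero iff its stalks at the closed points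
vanish -/
theorem isZero_iff_stalks_closed [CompactSpace X] (M : X.Modules) [M.IsQuasicoherent]
    [M.IsFiniteType] :
    IsZero M ↔ ∀ x : X, IsClosed ({x} : Set X) → Subsingleton (M.presheaf.stalk x) := by
  constructor
  · intro h x _
    exact (isZero_iff_stalks M).mp h x
  · intro h
    by_contra hz
    have hne := Groth.Agent.Lib.Helper1.MaxAnnInt.support_nonempty M hz
    have hcl := Groth.Agent.Lib.Helper1.MaxAnnInt.isClosed_support M
    obtain ⟨x, hxS, hx⟩ := hcl.exists_closed_singleton hne
    exact hxS (h x hx)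

section Ext

variable [IsLocallyNoetherian X] (F G : X.Modules) (hF : Coh.IsCoh F) (hG : Coh.IsCoh G)
  [ModSite.HasSheafHom (O := X.sheaf) F] [HasInjectiveResolutions (ModSite.Mod X.sheaf)]

include hF hG in
/-- **`ℰxt^j(F, G) = 0` iff `Ext^j_{O_x}(F_x, G_x) = 0` for every point `x`.** -/
theorem isZero_extSh_iff_stalks (j : ℕ) :
    IsZero ((ModSite.extSh (O := X.sheaf) F j).obj G) ↔
      ∀ x : X, Subsingleton (Abelian.Ext.{u}
        (ModuleCat.of (X.presheaf.stalk x) (F.presheaf.stalk x))
        (ModuleCat.of (X.presheaf.stalk x) (G.presheaf.stalk x)) j) := by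
  rw [show IsZero ((ModSite.extSh (O := X.sheaf) F j).obj G) ↔
    IsZero (show X.Modules from (ModSite.extSh (O := X.sheaf) F j).obj G) from Iff.rfl,
    isZero_iff_stalks]
  exact forall_congr' (fun x => subsingleton_stalk_extSh_iff F G hF hG j x)

include hF hG in
/-- **`ℰxt^j(F, G) = 0` iff `Ext^j_{O_x}(F_x, G_x) = 0` for every closed point `x`**, on a
quasi-compact scheme. -/
theorem isZero_extSh_iff_stalks_closed [CompactSpace X] (j : ℕ) :
    IsZero ((ModSite.extSh (O := X.sheaf) F j).obj G) ↔
      ∀ x : X, IsClosed ({x} : Set X) → Subsingleton (Abelian.Ext.{u}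
        (ModuleCat.of (X.presheaf.stalk x) (F.presheaf.stalk x))
        (ModuleCat.of (X.presheaf.stalk x) (G.presheaf.stalk x)) j) := by
  let H : X.Modules := (ModSite.extSh (O := X.sheaf) F j).obj G
  have hH : Coh.IsCoh H := isCoh_extSh j X F G hF hG
  haveI : H.IsQuasicoherent := hH.1
  haveI : H.IsFiniteType := hH.2
  change IsZero H ↔ _
  rw [isZero_iff_stalks_closed H]
  exact forall_congr' (fun x => imp_congr_right
    (fun _ => subsingleton_stalk_extSh_iff F G hF hG j x))

end Ext

end Groth.Agent.Lib.Helper2.StalkExt
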