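import Groth.Agent.Lib.Helper2.StalkExt.PnStalk
import Groth.Agent.Lib.Helper2.Stk.Tensor
import Groth.Agent.Lib.Helper25.SplitFibre
import Groth.Agent.Lib.Helper4.Depth

/-!
# Tensoring with an invertible module does not change the depth of the stalks (helper2)
-/

set_option autoImplicit false
set_option linter.style.haveILetI false
universe u
open CategoryTheory CategoryTheory.Limits AlgebraicGeometry TopologicalSpace Opposite
open scoped TensorProduct

noncomputable section

namespace Groth.Agent.Lib.Helper2.StalkExt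

open Groth.Agent.Lib.Helper2.Stk

variable {X : Scheme.{u}}

/-- the stalk of a module with a tensor inverse is free of rank one -/
theorem nonempty_stalk_linearEquiv_of_inverse (P Q : X.Modules)
    (hP : FlatMod.IsFinLocFree P) (hQ : FlatMod.IsFinLocFree Q)
    (e : CohB1.tensorMod P Q ≅ Coh.structureModule X) (x : X) :
    Nonempty (X.presheaf.stalk x ≃ₗ[X.presheaf.stalk x] P.presheaf.stalk x) := by
  obtain ⟨hPfree, hPfin⟩ := Groth.Agent.Lib.Helper25.SplitFibre.free_finite_stalk_of_isFinLocFree hP x
  obtain ⟨hQfree, hQfin⟩ := Groth.Agent.Lib.Helper25.SplitFibre.free_finite_stalk_of_isFinLocFree hQ x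
  let e1 : (P.presheaf.stalk x ⊗[X.presheaf.stalk x] Q.presheaf.stalk x) ≃ₗ[X.presheaf.stalk x]
      (CohB1.tensorMod P Q).presheaf.stalk x := tensorStalkLinearEquiv P Q x
  let e2 : (CohB1.tensorMod P Q).presheaf.stalk x ≃ₗ[X.presheaf.stalk x]
      (Coh.structureModule X).presheaf.stalk x := ((Φ x).mapIso e).toLinearEquiv
  let e3 : (Coh.structureModule X).presheaf.stalk x ≃ₗ[X.presheaf.stalk x] X.presheaf.stalk x :=
    (unitStalkIso x).toLinearEquiv
  have h1 : Module.finrank (X.presheaf.stalk x)
      (P.presheaf.stalk x ⊗[X.presheaf.stalk x] Q.presheaf.stalk x) = 1 := by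
    rw [((e1.trans e2).trans e3).finrank_eq, Module.finrank_self]
  rw [Module.finrank_tensorProduct] at h1
  exact Module.nonempty_linearEquiv_of_finrank_eq_one (Nat.eq_one_of_mul_eq_one_right h1)

/-- **tensoring with a module having a tensor inverse does not change the depth of the stalks** -/
theorem depth_stalk_tensorMod_of_inverse (F P Q : X.Modules)
    (hP : FlatMod.IsFinLocFree P) (hQ : FlatMod.IsFinLocFree Q)
    (e : CohB1.tensorMod P Q ≅ Coh.structureModule X) (x : X) :
    LocCoh.depth (X.presheaf.stalk x) ((CohB1.tensorMod F P).presheaf.stalk x) =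
      LocCoh.depth (X.presheaf.stalk x) (F.presheaf.stalk x) := by
  obtain ⟨ε⟩ := nonempty_stalk_linearEquiv_of_inverse P Q hP hQ e x
  let e1 : (F.presheaf.stalk x ⊗[X.presheaf.stalk x] P.presheaf.stalk x) ≃ₗ[X.presheaf.stalk x]
      (CohB1.tensorMod F P).presheaf.stalk x := tensorStalkLinearEquiv F P x
  let e2 : (F.presheaf.stalk x ⊗[X.presheaf.stalk x] P.presheaf.stalk x) ≃ₗ[X.presheaf.stalk x]
      F.presheaf.stalk x :=
    (TensorProduct.congr (LinearEquiv.refl _ _) ε.symm).trans (TensorProduct.rid _ _)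
  exact Groth.Agent.Lib.Helper4.idealDepth_congr _ (e1.symm.trans e2)

end Groth.Agent.Lib.Helper2.StalkExt
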