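import Groth.Agent.Lib.Helper2.StalkExt.ClosedPn
import Groth.Agent.Lib.Helper2.StalkExt.TensorDepth
import Groth.Agent.Lib.Helper2.ExtLin.NegTwist
import Groth.Agent.Lib.Helper7.AmpleSerre
import Groth.Agent.Lib.Helper7.RegSecAmple
import Groth.Agent.Lib.Helper7.AmpleRes2
import Groth.Agent.Lib.Helper11.NegTwC
import Groth.Agent.Lib.Helper23.XTwA

/-!
# Vanishing of the cohomology of negative powers of an ample module from depth (helper2)
-/

set_option autoImplicit false
set_option linter.style.haveILetI false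
universe u
open CategoryTheory CategoryTheory.Limits AlgebraicGeometry TopologicalSpace Opposite

noncomputable section

namespace Groth.Agent.Lib.Helper2.StalkExt

open Groth.Agent.Lib.Helper3 Groth.Agent.Lib.Helper3.InvMonoidal Groth.Agent.Lib.Helper3.InvCoh
  Groth.Agent.Lib.Helper3.InvTensor Groth.Agent.Lib.Helper7 Groth.Agent.Lib.Helper2.ExtLin

variable (k : Type u) [Field k] {X : Scheme.{u}} [X.Over (Spec (CommRingCat.of k))]
  [IsProper (X ↘ Spec (CommRingCat.of k))]

include k in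
/-- **If `depth F_x > n` at the closed points then `H^j(X, F ⊗ M^m) = 0` for `j ≤ n`, `m ≫ 0`**,
`M` the inverse of an ample module on a proper scheme over a field. -/
theorem neg_pow_vanishing_of_depth (L M F : X.Modules) (hL : CohB1.IsAmple L)
    (e : CohB1.tensorMod L M ≅ Coh.structureModule X) (hF : Coh.IsCoh F) (n : ℕ)
    (hdepth : ∀ x : X, IsClosed ({x} : Set X) →
      (n : ℕ∞) < LocCoh.depth (X.presheaf.stalk x) (F.presheaf.stalk x)) :
    ∃ m₀ : ℕ, ∀ m : ℕ, m₀ ≤ m → ∀ j : ℕ, j ≤ n →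
      Subsingleton (Coh.HH X (CohB1.tensorMod F (CohB1.tensorPow M m)) j) := by
  obtain ⟨a, N, ι, ha, hcl, hcomp, ⟨τ⟩⟩ :=
    AmpleSerre.exists_closedImmersion_iso k (X ↘ Spec (CommRingCat.of k)) hL
  haveI := hcl
  haveI := hF.1
  haveI := hF.2
  have hLi := hL.1
  have hMi : PicF.IsInvertible M :=
    AmpleRes2.isInvertible_of_isInverseOf hLi ⟨braid M L ≪≫ e⟩
  have key : ∀ r : ℕ, ∃ q₀ : ℕ, ∀ q : ℕ, q₀ ≤ q → ∀ j : ℕ, j ≤ n →
      Subsingleton (Coh.HH X (CohB1.tensorMod (CohB1.tensorMod F (CohB1.tensorPow M r))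
        ((Scheme.Modules.pullback ι).obj (Twist.twistProjSpace N k (-(q : ℤ))))) j) := by
    intro r
    have hcoh : Coh.IsCoh (CohB1.tensorMod F (CohB1.tensorPow M r)) :=
      ⟨isQuasicoherent_tensorMod F _ (isInvertible_tensorPow hMi r),
        isFiniteType_tensorMod F _ (isInvertible_tensorPow hMi r)⟩
    refine (neg_twist_vanishing_le_iff_depth_stalk_closed k N ι _ hcoh n).mpr (fun x hx => ?_)
    rw [depth_stalk_tensorMod_of_inverse F (CohB1.tensorPow M r) (CohB1.tensorPow L r)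
      (Groth.Agent.Lib.Helper17.AmpleFin.isFinLocFree_of_isInvertible
        (isInvertible_tensorPow hMi r))
      (Groth.Agent.Lib.Helper17.AmpleFin.isFinLocFree_of_isInvertible
        (isInvertible_tensorPow hLi r))
      (braid _ _ ≪≫ Groth.Agent.Lib.Helper11.NegTwC.pairPow e r) x]
    exact hdepth x hx
  choose q₀ hq₀ using key
  have σ : ∀ q : ℕ, CohB1.tensorPow M (a * q) ≅
      (Scheme.Modules.pullback ι).obj (Twist.twistProjSpace N k (-(q : ℤ))) := fun q =>
    RegSecAmple.inverseUnique (Groth.Agent.Lib.Helper11.NegTwC.pairPow e (a * q))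
      (tensorMapIso ((powMul L a q).symm ≪≫ tensorPowIso τ q ≪≫
        Groth.Agent.Lib.Helper23.XTw.powIsoX ι q) (Iso.refl _) ≪≫
        pullPairIso k N ι (q : ℤ) (-(q : ℤ)) (by omega))
  refine ⟨a * ((Finset.range a).sup q₀) + a, fun m hm j hj => ?_⟩
  have hm' : m = m % a + a * (m / a) := (Nat.mod_add_div m a).symm
  have hr : m % a < a := Nat.mod_lt m ha
  have hq : (Finset.range a).sup q₀ ≤ m / a := by
    rw [Nat.le_div_iff_mul_le ha]
    calc (Finset.range a).sup q₀ * a = a * (Finset.range a).sup q₀ := Nat.mul_comm _ _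
      _ ≤ m := by omega
  have hq' : q₀ (m % a) ≤ m / a :=
    le_trans (Finset.le_sup (f := q₀) (Finset.mem_range.mpr hr)) hq
  have iso : CohB1.tensorMod F (CohB1.tensorPow M m) ≅
      CohB1.tensorMod (CohB1.tensorMod F (CohB1.tensorPow M (m % a)))
        ((Scheme.Modules.pullback ι).obj (Twist.twistProjSpace N k (-((m / a : ℕ) : ℤ)))) :=
    tensorMapIso (Iso.refl F) (powCast M hm' ≪≫ (powAdd M (m % a) (a * (m / a))).symm ≪≫
      tensorMapIso (Iso.refl _) (σ (m / a))) ≪≫ (assoc F _ _).symm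
  exact TwFun.subsingleton_HH_of_iso iso j (hq₀ (m % a) (m / a) hq' j hj)

end Groth.Agent.Lib.Helper2.StalkExt
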