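import Mathlib
import Groth.Agent.Lib.Helper4.CanonS2

/-!
# Transport of `Ext` vanishing along ring isomorphisms and between models of a localization (helper2)
-/

set_option autoImplicit false
set_option linter.style.haveILetI false
universe u
open CategoryTheory CategoryTheory.Limits Abelian

noncomputable section

namespace Groth.Agent.Lib.Helper2.StalkExt

section RingEquiv

variable {R R' : Type u} [CommRing R] [CommRing R'] (e : R' ≃+* R)

/-- restriction of scalars along a ring isomorphism preserves (non)vanishing of `Ext`. -/
theorem subsingleton_ext_restrictScalars_iff (X Y : ModuleCat.{u} R) (n : ℕ) :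
    Subsingleton (Ext.{u} X Y n) ↔
      Subsingleton (Ext.{u} ((ModuleCat.restrictScalars e.toRingHom).obj X)
        ((ModuleCat.restrictScalars e.toRingHom).obj Y) n) := by
  let E := ModuleCat.restrictScalarsEquivalenceOfRingEquiv e
  haveI : (ModuleCat.restrictScalars e.toRingHom).PreservesInjectiveObjects :=
    Functor.preservesInjectiveObjects_of_adjunction_of_preservesMonomorphisms E.symm.toAdjunction
  have hb := (ModuleCat.restrictScalars e.toRingHom).mapExt_bijective_of_preservesInjectiveObjects
    X Y n
  exact (Equiv.ofBijective _ hb).subsingleton_congr

end RingEquiv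

section Loc

variable {R : Type u} [CommRing R] (S : Submonoid R) (R' : Type u) [CommRing R'] [Algebra R R']
  [IsLocalization S R']

/-- the ring isomorphism between an abstract localization and the concrete one -/
def locEquiv : R' ≃+* Localization S := (IsLocalization.algEquiv S R' (Localization S)).toRingEquiv

variable (M : Type u) [AddCommGroup M] [Module R M]
  (M' : Type u) [AddCommGroup M'] [Module R M'] [Module R' M'] [IsScalarTower R R' M']
  (gM : M →ₗ[R] M') [IsLocalizedModule S gM]

/-- the concrete localized module, with scalars restricted to an abstract localization, is the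
abstract localized module. -/
def restrictIso :
    (ModuleCat.restrictScalars (locEquiv S R').toRingHom).obj
      (ModuleCat.of (Localization S) (LocalizedModule S M)) ≅ ModuleCat.of R' M' := by
  letI : Module R' (LocalizedModule S M) := Module.compHom _ (locEquiv S R').toRingHom
  haveI : IsScalarTower R R' (LocalizedModule S M) := ⟨fun r r' x => by
    change (locEquiv S R') (r • r') • x = r • ((locEquiv S R') r' • x)
    rw [Algebra.smul_def, map_mul]
    have h1 : (locEquiv S R') (algebraMap R R' r) = algebraMap R (Localization S) r :=
      (IsLocalization.algEquiv S R' (Localization S)).commutes r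
    rw [h1, mul_smul, algebraMap_smul]⟩
  exact ((IsLocalizedModule.iso S gM).extendScalarsOfIsLocalization S R').toModuleIso

variable (N : Type u) [AddCommGroup N] [Module R N]
  (N' : Type u) [AddCommGroup N'] [Module R N'] [Module R' N'] [IsScalarTower R R' N']
  (gN : N →ₗ[R] N') [IsLocalizedModule S gN]

include gM gN in
/-- **`Ext` over the concrete localization vanishes iff `Ext` over any model of it does.** -/
theorem subsingleton_ext_localizedModule_iff_model (n : ℕ) :
    Subsingleton (Ext.{u} (ModuleCat.of (Localization S) (LocalizedModule S M))
      (ModuleCat.of (Localization S) (LocalizedModule S N)) n) ↔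
      Subsingleton (Ext.{u} (ModuleCat.of R' M') (ModuleCat.of R' N') n) := by
  rw [subsingleton_ext_restrictScalars_iff (locEquiv S R')]
  exact ((Groth.Agent.Lib.Helper4.LC.extCongrLeft (restrictIso S R' M M' gM) _ n).trans
    (Groth.Agent.Lib.Helper4.LC.extCongrRight _ (restrictIso S R' N N' gN) n)).toEquiv.subsingleton_congr

end Loc

end Groth.Agent.Lib.Helper2.StalkExt
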