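import Groth.Agent.Lib.Helper2.StalkExt.Global
import Groth.Agent.Lib.Helper2.ExtLin.PnDual
import Groth.Agent.Lib.Helper9.StalkUnit

/-!
# Negative twists on `P^n_k` and `Ext` of the stalks (helper2)
-/

set_option autoImplicit false
set_option linter.style.haveILetI false
universe u
open CategoryTheory CategoryTheory.Limits AlgebraicGeometry TopologicalSpace Opposite

noncomputable section

namespace Groth.Agent.Lib.Helper2.StalkExt

open Groth.Agent.Lib.Helper7 Groth.Agent.Lib.Helper7.TwFun Groth.Agent.Lib.Helper7.TwProj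
  Groth.Agent.Lib.Helper7.RegRes Groth.Agent.Lib.Helper7.PnExt Groth.Agent.Lib.Helper3
  Groth.Agent.Lib.Helper3.InvMonoidal Groth.Agent.Lib.Helper2.Dual Groth.Agent.Lib.Helper7.PnDual
  Groth.Agent.Lib.Helper2.ExtLin Groth.Agent.Lib.Helper9.StalkUnit

section Unit

variable {X : Scheme.{u}}

/-- the stalk of the structure module is the local ring -/
def unitStalkIso (x : X) :
    ModuleCat.of (X.presheaf.stalk x) ((Coh.structureModule X).presheaf.stalk x) ≅
      ModuleCat.of (X.presheaf.stalk x) (X.presheaf.stalk x) :=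
  (LinearEquiv.ofBijective
    ({ toFun := unitStalkHom x
       map_add' := map_add _
       map_smul' := fun r a => unitStalkHom_smul x r a } :
      ((Coh.structureModule X).presheaf.stalk x) →ₗ[X.presheaf.stalk x] (X.presheaf.stalk x))
    ⟨unitStalkHom_injective x, unitStalkHom_surjective x⟩).toModuleIso

end Unit

variable (n : ℕ) (k : Type u) [Field k]

section Omega

variable (F : (CohB1.ProjSpace n k).Modules)
  [ModSite.HasSheafHom (O := (CohB1.ProjSpace n k).sheaf) F]
  [HasInjectiveResolutions (ModSite.Mod (CohB1.ProjSpace n k).sheaf)]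

/-- `ℰxt^q(F, ω) = 0` iff `ℰxt^q(F, O) = 0`, since `ω` is invertible -/
theorem isZero_extSh_omega_iff (q : ℕ) :
    IsZero ((ModSite.extSh (O := (CohB1.ProjSpace n k).sheaf) F q).obj (omega n k)) ↔
      IsZero ((ModSite.extSh (O := (CohB1.ProjSpace n k).sheaf) F q).obj
        (Coh.structureModule (CohB1.ProjSpace n k))) := by
  haveI h1 : HasInjectiveResolutions (CohB1.ProjSpace n k).Modules :=
    ‹HasInjectiveResolutions (ModSite.Mod (CohB1.ProjSpace n k).sheaf)›
  have hU := Mumford.hU n k
  have hL : FlatMod.IsFinLocFree (omega n k) :=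
    Groth.Agent.Lib.Helper17.AmpleFin.isFinLocFree_of_isInvertible
      (TwProj.isInvertible_twist (Mumford.hU n k) _)
  obtain ⟨e⟩ := nonempty_extSh_tensor_iso F (Coh.structureModule (CohB1.ProjSpace n k))
    (omega n k) hL q
  have e0 : (ModSite.extSh (O := (CohB1.ProjSpace n k).sheaf) F q).obj
      (CohB1.tensorMod (Coh.structureModule (CohB1.ProjSpace n k)) (omega n k)) ≅
      (ModSite.extSh (O := (CohB1.ProjSpace n k).sheaf) F q).obj (omega n k) :=
    (ModSite.extSh (O := (CohB1.ProjSpace n k).sheaf) F q).mapIso (unitorL (omega n k))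
  constructor
  · intro h
    have h2 : IsZero (CohB1.tensorMod
        ((ModSite.extSh (O := (CohB1.ProjSpace n k).sheaf) F q).obj
          (Coh.structureModule (CohB1.ProjSpace n k))) (omega n k)) :=
      IsZero.of_iso h (e.symm ≪≫ e0)
    have ec := cancelIso (omega n k) (Twist.twistProjSpace n k ((n : ℤ) + 1))
      (pairIso' hU (-((n : ℤ) + 1)) ((n : ℤ) + 1) (by omega))
      ((ModSite.extSh (O := (CohB1.ProjSpace n k).sheaf) F q).obj
          (Coh.structureModule (CohB1.ProjSpace n k)))
    exact IsZero.of_iso ((twR (Twist.twistProjSpace n k ((n : ℤ) + 1))).map_isZero h2) ec.symm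
  · intro h
    have h2 : IsZero (CohB1.tensorMod
        ((ModSite.extSh (O := (CohB1.ProjSpace n k).sheaf) F q).obj
          (Coh.structureModule (CohB1.ProjSpace n k))) (omega n k)) :=
      (twR (omega n k)).map_isZero h
    exact IsZero.of_iso h2 (e0.symm ≪≫ e)

end Omega

section Main

variable (F : (CohB1.ProjSpace n k).Modules) (hF : Coh.IsCoh F)

include hF in
/-- **`H^p(P, F(-m)) = 0` for `m ≫ 0` iff `Ext^{n-p}_{O_x}(F_x, O_x) = 0` at every point.** -/
theorem neg_twist_vanishing_iff_stalk_ext (p j : ℕ) (hpj : p + j = n) :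
    (∃ m₀ : ℤ, ∀ m : ℤ, m₀ ≤ m → Subsingleton (Coh.HH (CohB1.ProjSpace n k)
        (CohB1.tensorMod F (Twist.twistProjSpace n k (-m))) p)) ↔
      ∀ x : CohB1.ProjSpace n k, Subsingleton (Abelian.Ext.{u}
        (ModuleCat.of ((CohB1.ProjSpace n k).presheaf.stalk x) (F.presheaf.stalk x))
        (ModuleCat.of ((CohB1.ProjSpace n k).presheaf.stalk x)
          ((CohB1.ProjSpace n k).presheaf.stalk x)) j) := by
  haveI : IsNoetherian (CohB1.ProjSpace n k) := Groth.Agent.S2357.result (CohB1.polyGrading n k)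
  haveI : EnoughInjectives (CohB1.ProjSpace n k).Modules :=
    Groth.Agent.Lib.Helper13.ModGrothendieck.enoughInjectives (CohB1.ProjSpace n k).ringCatSheaf
  haveI : HasExt.{u} (CohB1.ProjSpace n k).Modules := hasExt_of_enoughInjectives.{u} _
  have hnp : n - p = j := by omega
  rw [neg_twist_vanishing_iff n k F hF p (by omega), hnp, isZero_extSh_omega_iff,
    isZero_extSh_iff_stalks F _ hF (Groth.Agent.Lib.Helper2.ExtShCoh.isCoh_unit _) j]
  exact forall_congr' (fun x =>
    (Groth.Agent.Lib.Helper4.LC.extCongrRight _ (unitStalkIso x) j).toEquiv.subsingleton_congr)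

include hF in
/-- **`H^p(P, F(-m)) = 0` for `m ≫ 0` iff `Ext^{n-p}_{O_x}(F_x, O_x) = 0` at every closed
point.** -/
theorem neg_twist_vanishing_iff_stalk_ext_closed (p j : ℕ) (hpj : p + j = n) :
    (∃ m₀ : ℤ, ∀ m : ℤ, m₀ ≤ m → Subsingleton (Coh.HH (CohB1.ProjSpace n k)
        (CohB1.tensorMod F (Twist.twistProjSpace n k (-m))) p)) ↔
      ∀ x : CohB1.ProjSpace n k, IsClosed ({x} : Set (CohB1.ProjSpace n k)) →
        Subsingleton (Abelian.Ext.{u}
          (ModuleCat.of ((CohB1.ProjSpace n k).presheaf.stalk x) (F.presheaf.stalk x))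
          (ModuleCat.of ((CohB1.ProjSpace n k).presheaf.stalk x)
            ((CohB1.ProjSpace n k).presheaf.stalk x)) j) := by
  haveI : IsNoetherian (CohB1.ProjSpace n k) := Groth.Agent.S2357.result (CohB1.polyGrading n k)
  haveI : EnoughInjectives (CohB1.ProjSpace n k).Modules :=
    Groth.Agent.Lib.Helper13.ModGrothendieck.enoughInjectives (CohB1.ProjSpace n k).ringCatSheaf
  haveI : HasExt.{u} (CohB1.ProjSpace n k).Modules := hasExt_of_enoughInjectives.{u} _
  have hnp : n - p = j := by omega
  rw [neg_twist_vanishing_iff n k F hF p (by omega), hnp, isZero_extSh_omega_iff,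
    isZero_extSh_iff_stalks_closed F _ hF (Groth.Agent.Lib.Helper2.ExtShCoh.isCoh_unit _) j]
  exact forall_congr' (fun x => imp_congr_right (fun _ =>
    (Groth.Agent.Lib.Helper4.LC.extCongrRight _ (unitStalkIso x) j).toEquiv.subsingleton_congr))

end Main

end Groth.Agent.Lib.Helper2.StalkExt
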