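import Groth.Agent.Lib.Helper2.StalkExt.Bridge
import Groth.Agent.Lib.Helper2.ExtTilde.Chart
import Groth.Agent.Lib.Helper2.ExtShCoh.Coh
import Groth.Agent.Lib.Helper2.ExtDepth.Global

/-!
# The stalk of `ℰxt^j(F, G)` vanishes iff `Ext^j` of the stalks does (helper2)
-/

set_option autoImplicit false
set_option linter.style.haveILetI false
universe u
open CategoryTheory CategoryTheory.Limits AlgebraicGeometry TopologicalSpace Opposite
open Scheme.Modules

noncomputable section

namespace Groth.Agent.Lib.Helper2.StalkExt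

open Groth.Agent.Lib.Helper3 Groth.Agent.Lib.Helper2.ExtTilde Groth.Agent.Lib.Helper2.ExtShCoh

variable {X : Scheme.{u}}

/-- the stalk of a quasi-coherent module at a point of an affine open vanishes iff every section
over the affine open is killed by a function not vanishing at the point. -/
theorem subsingleton_stalk_iff (K : X.Modules) [K.IsQuasicoherent] {V : X.Opens}
    (hV : IsAffineOpen V) (x : X) (hxV : x ∈ V) :
    Subsingleton (K.presheaf.stalk x) ↔
      ∀ s : Γ(K, V), ∃ t : (hV.primeIdealOf ⟨x, hxV⟩).asIdeal.primeCompl,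
        (t : Γ(X, V)) • s = 0 := by
  letI algA : Algebra Γ(X, V) (X.presheaf.stalk x) :=
    TopCat.Presheaf.algebra_section_stalk X.presheaf (U := V) ⟨x, hxV⟩
  letI modAF : Module Γ(X, V) (K.presheaf.stalk x) :=
    Module.compHom _ (algebraMap Γ(X, V) (X.presheaf.stalk x))
  let gF : Γ(K, V) →ₗ[Γ(X, V)] K.presheaf.stalk x :=
    { toFun := K.presheaf.germ V x hxV
      map_add' := map_add _
      map_smul' := fun r m => QS.germ_smul K x hxV r m }
  haveI hgF : IsLocalizedModule (hV.primeIdealOf ⟨x, hxV⟩).asIdeal.primeCompl gF :=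
    QS.isLocalizedModule_germ hV K x hxV (fun r z => rfl) gF (fun m => rfl)
  rw [IsLocalizedModule.subsingleton_iff (hV.primeIdealOf ⟨x, hxV⟩).asIdeal.primeCompl gF]
  constructor
  · intro h s
    obtain ⟨r, hr, hrs⟩ := h s
    exact ⟨⟨r, hr⟩, hrs⟩
  · intro h s
    obtain ⟨t, ht⟩ := h s
    exact ⟨t.1, t.2, ht⟩

/-- **The stalk of `ℰxt^j(F, G)` at `x` vanishes iff `Ext^j_{O_x}(F_x, G_x)` does.** -/
theorem subsingleton_stalk_extSh_iff [IsLocallyNoetherian X] (F G : X.Modules)
    (hF : Coh.IsCoh F) (hG : Coh.IsCoh G)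
    [ModSite.HasSheafHom (O := X.sheaf) F] [HasInjectiveResolutions (ModSite.Mod X.sheaf)]
    (j : ℕ) (x : X) :
    Subsingleton ((Scheme.Modules.presheaf (X := X)
      ((ModSite.extSh (O := X.sheaf) F j).obj G)).stalk x) ↔
      Subsingleton (Abelian.Ext.{u} (ModuleCat.of (X.presheaf.stalk x) (F.presheaf.stalk x))
        (ModuleCat.of (X.presheaf.stalk x) (G.presheaf.stalk x)) j) := by
  haveI : F.IsQuasicoherent := hF.1
  haveI : F.IsFiniteType := hF.2
  haveI : G.IsQuasicoherent := hG.1
  obtain ⟨_, ⟨V, hV : IsAffineOpen V, rfl⟩, hxV, -⟩ :=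
    X.isBasis_affineOpens.exists_subset_of_mem_open (Set.mem_univ x) isOpen_univ
  haveI : IsNoetherianRing Γ(X, V) := IsLocallyNoetherian.component_noetherian ⟨V, hV⟩
  haveI : Module.Finite Γ(X, V) Γ(F, V) := QCProps.finite_sections F hV
  let H : X.Modules := (ModSite.extSh (O := X.sheaf) F j).obj G
  have hH : Coh.IsCoh H := isCoh_extSh j X F G hF hG
  haveI : H.IsQuasicoherent := hH.1
  change Subsingleton (H.presheaf.stalk x) ↔ _
  rw [subsingleton_stalk_iff H hV x hxV]
  obtain ⟨e⟩ := nonempty_sections_extSh_linearEquiv hV F G hF j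
  -- the local ring as a localization, the stalks as localized modules
  letI algA : Algebra Γ(X, V) (X.presheaf.stalk x) :=
    TopCat.Presheaf.algebra_section_stalk X.presheaf (U := V) ⟨x, hxV⟩
  haveI : IsLocalization (hV.primeIdealOf ⟨x, hxV⟩).asIdeal.primeCompl (X.presheaf.stalk x) :=
    hV.isLocalization_stalk ⟨x, hxV⟩
  letI modAF : Module Γ(X, V) (F.presheaf.stalk x) :=
    Module.compHom _ (algebraMap Γ(X, V) (X.presheaf.stalk x))
  letI modAG : Module Γ(X, V) (G.presheaf.stalk x) :=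
    Module.compHom _ (algebraMap Γ(X, V) (X.presheaf.stalk x))
  haveI : IsScalarTower Γ(X, V) (X.presheaf.stalk x) (F.presheaf.stalk x) :=
    ⟨fun r r' z => by
      change (algebraMap Γ(X, V) (X.presheaf.stalk x) r * r') • z =
        algebraMap Γ(X, V) (X.presheaf.stalk x) r • (r' • z)
      rw [mul_smul]⟩
  haveI : IsScalarTower Γ(X, V) (X.presheaf.stalk x) (G.presheaf.stalk x) :=
    ⟨fun r r' z => by
      change (algebraMap Γ(X, V) (X.presheaf.stalk x) r * r') • z =
        algebraMap Γ(X, V) (X.presheaf.stalk x) r • (r' • z)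
      rw [mul_smul]⟩
  let gF : Γ(F, V) →ₗ[Γ(X, V)] F.presheaf.stalk x :=
    { toFun := F.presheaf.germ V x hxV
      map_add' := map_add _
      map_smul' := fun r m => QS.germ_smul F x hxV r m }
  haveI hgF : IsLocalizedModule (hV.primeIdealOf ⟨x, hxV⟩).asIdeal.primeCompl gF :=
    QS.isLocalizedModule_germ hV F x hxV (fun r z => rfl) gF (fun m => rfl)
  let gG : Γ(G, V) →ₗ[Γ(X, V)] G.presheaf.stalk x :=
    { toFun := G.presheaf.germ V x hxV
      map_add' := map_add _
      map_smul' := fun r m => QS.germ_smul G x hxV r m }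
  haveI hgG : IsLocalizedModule (hV.primeIdealOf ⟨x, hxV⟩).asIdeal.primeCompl gG :=
    QS.isLocalizedModule_germ hV G x hxV (fun r z => rfl) gG (fun m => rfl)
  rw [← subsingleton_ext_localizedModule_iff_model
    (hV.primeIdealOf ⟨x, hxV⟩).asIdeal.primeCompl (X.presheaf.stalk x)
    Γ(F, V) (F.presheaf.stalk x) gF Γ(G, V) (G.presheaf.stalk x) gG j,
    Groth.Agent.Lib.Helper4.CanonMod.subsingleton_ext_localizedModule_iff
      (hV.primeIdealOf ⟨x, hxV⟩).asIdeal.primeCompl Γ(F, V) Γ(G, V) j]
  constructor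
  · intro h c
    obtain ⟨t, ht⟩ := h (e.symm c)
    refine ⟨t, ?_⟩
    have h1 := congrArg e ht
    rw [_root_.map_smul, LinearEquiv.apply_symm_apply, map_zero] at h1
    exact h1
  · intro h s
    obtain ⟨t, ht⟩ := h (e s)
    refine ⟨t, ?_⟩
    apply e.injective
    rw [_root_.map_smul, map_zero]
    exact ht

end Groth.Agent.Lib.Helper2.StalkExt
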